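import Groth.Agent.AlbNormLib.LangTorsor
import Groth.Prelude.Def_GalTw2

/-!
# The Frobenius endomorphisms of all schemes over a finite field
-/

set_option autoImplicit false
set_option linter.style.haveILetI false
set_option backward.isDefEq.respectTransparency false

noncomputable section

universe u

open CategoryTheory MonoidalCategory CartesianMonoidalCategory MonObj AlgebraicGeometry FrobSch
open Groth.Agent AVAmpleLib

namespace LangGenLib

attribute [-instance] CategoryTheory.Hom.commGroup

variable (k : Type u) [Field k] [Finite k]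

/-- A natural endomorphism of every scheme over `k` raising functions to the power `#k`. -/
structure IsFrob (fr : ∀ T : Over (Spec (CommRingCat.of k)), T ⟶ T) : Prop where
  nat : ∀ {T T' : Over (Spec (CommRingCat.of k))} (f : T ⟶ T'), fr T ≫ f = f ≫ fr T'
  spec : ∀ (R : CommRingCat.{u}) (t : Spec R ⟶ Spec (CommRingCat.of k)) (g : R ⟶ R),
    (∀ x : R, g.hom x = x ^ Nat.card k) → (fr (Over.mk t)).left = Spec.map g

theorem exists_isFrob : ∃ fr : ∀ T : Over (Spec (CommRingCat.of k)), T ⟶ T, IsFrob k fr := by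
  obtain ⟨p, n, _, _, hq, hid⟩ := frobIter_spec_card k
  haveI : ∀ T : Over (Spec (CommRingCat.of k)), IsCharP T.left p := fun T => IsCharP.of_hom T.hom p
  refine ⟨fun T => Over.homMk (frobIter T.left p n) (by rw [CurveFFLib.frobIter_comp, hid, Category.comp_id]),
    fun f => Over.OverMorphism.ext (CurveFFLib.frobIter_comp f.left n), fun R t g hg => ?_⟩
  haveI : IsCharP (Spec R) p := IsCharP.of_hom t p
  show frobIter (Spec R) p n = Spec.map g
  rcases subsingleton_or_nontrivial R with h | h
  · exact ext_of_isAffine (CommRingCat.hom_ext (RingHom.ext fun _ => Subsingleton.elim (α := Γ(Spec R, ⊤))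
      (h := (Scheme.ΓSpecIso R).commRingCatIsoToRingEquiv.toEquiv.subsingleton) _ _))
  · obtain ⟨f, -⟩ := Spec.map_surjective t
    haveI : CharP R p := charP_of_injective_ringHom f.hom.injective p
    haveI : ExpChar R p := ExpChar.prime Fact.out
    refine (CurveFFLib.frobIter_spec (p := p) (R : Type u) n).trans ?_
    congr 1
    refine CommRingCat.hom_ext (RingHom.ext fun x => ?_)
    show iterateFrobenius R p n x = g.hom x
    rw [hg, hq, iterateFrobenius_def]

variable {k}
variable {fr : ∀ T : Over (Spec (CommRingCat.of k)), T ⟶ T} (hfr : IsFrob k fr)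

include hfr

/-- The Frobenius of a group scheme is a homomorphism. -/
theorem IsFrob.isMonHom (G : Over (Spec (CommRingCat.of k))) [GrpObj G] : IsMonHom (fr G) := by
  have h1 : fr (𝟙_ (Over (Spec (CommRingCat.of k)))) = 𝟙 _ := toUnit_unique _ _
  have h2 : fr (G ⊗ G) = fr G ⊗ₘ fr G := by
    refine CartesianMonoidalCategory.hom_ext _ _ ?_ ?_
    · rw [tensorHom_fst]; exact hfr.nat _
    · rw [tensorHom_snd]; exact hfr.nat _
  exact ⟨by rw [← hfr.nat, h1, Category.id_comp], by rw [← hfr.nat, h2]⟩

/-- The Frobenius does not see infinitesimal displacements. -/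
theorem IsFrob.comp_eq (T : Over (Spec (CommRingCat.of k))) {R S : CommRingCat.{u}} (φ : R ⟶ S)
    (hφ : Function.Surjective φ) (hI : RingHom.ker φ.hom ^ 2 = ⊥) (g₁ g₂ : Spec R ⟶ T.left)
    (h0 : g₁ ≫ T.hom = g₂ ≫ T.hom) (hg : Spec.map φ ≫ g₁ = Spec.map φ ≫ g₂) :
    g₁ ≫ (fr T).left = g₂ ≫ (fr T).left := by
  have hq : ((Nat.card k : ℕ) : R) = 0 := AlbNormLib.natCard_eq_zero_of_hom (g₁ ≫ T.hom)
  let q := Nat.card k
  obtain ⟨p, n, _, _, hpn, -⟩ := frobIter_spec_card k
  -- the power map as a ring endomorphism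
  obtain ⟨F, hF⟩ : ∃ F : R ⟶ R, ∀ x : R, F.hom x = x ^ q := by
    rcases subsingleton_or_nontrivial R with h | h
    · exact ⟨𝟙 R, fun _ => Subsingleton.elim _ _⟩
    · obtain ⟨f, -⟩ := Spec.map_surjective (g₁ ≫ T.hom)
      haveI : CharP R p := charP_of_injective_ringHom f.hom.injective p
      haveI : ExpChar R p := ExpChar.prime Fact.out
      exact ⟨CommRingCat.ofHom (iterateFrobenius R p n), fun x => (iterateFrobenius_def p n x).trans (by rw [← hpn])⟩
  have hker : RingHom.ker φ.hom ≤ RingHom.ker F.hom := fun x hx => by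
    rw [RingHom.mem_ker, hF]
    have h1 := AlbNormLib.pow_eq_pow_of_sub_mem hI hq (x := x) (y := 0) (by simpa using hx)
    rw [h1, zero_pow (Nat.card_pos).ne']
  let ψ : S ⟶ R := CommRingCat.ofHom (φ.hom.liftOfSurjective hφ ⟨F.hom, hker⟩)
  have hψ : φ ≫ ψ = F := by
    ext x
    exact RingHom.liftOfRightInverse_comp_apply _ _ (Function.rightInverse_surjInv hφ) _ x
  have key : ∀ g : Spec R ⟶ T.left, g ≫ T.hom = g₁ ≫ T.hom →
      g ≫ (fr T).left = Spec.map ψ ≫ Spec.map φ ≫ g := fun g h => by
    have := congrArg Over.Hom.left (hfr.nat (Over.homMk g h : Over.mk (g₁ ≫ T.hom) ⟶ T))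
    simp only [Over.comp_left, hfr.spec R _ F hF, Over.homMk_left] at this
    rw [← this, ← hψ, Spec.map_comp, Category.assoc]
  rw [key g₁ rfl, key g₂ h0.symm, hg]

end LangGenLib

end
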