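import Groth.Agent.LangGenLib.Frob
import Groth.Agent.StackCountLib.BCFib

/-!
# Lang's theorem for a twisted Frobenius of a connected smooth group scheme
-/

set_option autoImplicit false
set_option linter.all false
set_option backward.isDefEq.respectTransparency false
set_option backward.isDefEq.respectTransparency.types false
set_option maxHeartbeats 1000000

noncomputable section

universe u

open CategoryTheory CategoryTheory.Limits MonoidalCategory CartesianMonoidalCategory MonObj AlgebraicGeometry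
open Groth.Agent

namespace LangGenLib

attribute [-instance] CategoryTheory.Hom.commGroup

open StackCountLib.BC (e e_nat)

variable {k : Type u} [Field k] [Finite k]
variable {fr : ∀ T : Over (Spec (CommRingCat.of k)), T ⟶ T}
variable (Ω : Type u) [Field Ω] [Algebra k Ω]

/-- The structure map of a field over `k`. -/
local notation "ptm" => Spec.map (CommRingCat.ofHom (algebraMap k Ω))

/-- Lang's theorem over an algebraically closed field, for the Frobenius followed by an endomorphism. -/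
theorem exists_lang_bc [IsAlgClosed Ω] (hfr : IsFrob k fr) (G : Over (Spec (CommRingCat.of k))) [GrpObj G]
    [Smooth G.hom] [QuasiCompact G.hom] [ConnectedSpace G.left]
    (θ : Red.bc ptm G ⟶ Red.bc ptm G) [IsMonHom θ] (c : 𝟙_ (Over (Spec (CommRingCat.of Ω))) ⟶ Red.bc ptm G) :
    ∃ g : 𝟙_ (Over (Spec (CommRingCat.of Ω))) ⟶ Red.bc ptm G,
      g * (g ≫ (Over.pullback ptm).map (fr G) ≫ θ)⁻¹ = c := by
  haveI : IsSeparated G.hom := GrpField.isSeparated_grp
  haveI : GeometricallyIntegral G.hom := AlbLib.geometricallyIntegral_grp G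
  haveI := hfr.isMonHom G
  let X := Red.bc ptm G
  haveI : IsSeparated X.hom := inferInstanceAs (IsSeparated (pullback.snd G.hom _))
  haveI : QuasiCompact X.hom := inferInstanceAs (QuasiCompact (pullback.snd G.hom _))
  haveI : LocallyOfFiniteType X.hom := inferInstanceAs (LocallyOfFiniteType (pullback.snd G.hom _))
  haveI : GeometricallyIntegral X.hom := inferInstanceAs (GeometricallyIntegral (pullback.snd G.hom _))
  haveI : IsIntegral X.left := GeometricallyIntegral.isIntegral_of_subsingleton X.hom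
  haveI : JacobsonSpace X.left := LocallyOfFiniteType.jacobsonSpace X.hom
  let F₁ : X ⟶ X := (Over.pullback ptm).map (fr G)
  haveI : IsMonHom F₁ := inferInstanceAs (IsMonHom ((Over.pullback ptm).map (fr G)))
  let F' : X ⟶ X := F₁ ≫ θ
  haveI : IsMonHom F' := inferInstanceAs (IsMonHom (F₁ ≫ θ))
  let L : (𝟙_ (Over (Spec (CommRingCat.of Ω))) ⟶ X) → (X ⟶ X) := fun a => (𝟙 X * (toUnit X ≫ a)) * F'⁻¹
  have hunr : ∀ a, FormallyUnramified (L a).left := fun a => by
    refine FormallyUnramified.of_hom_ext _ fun R S φ hφ hI g₁ g₂ hg hgf => ?_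
    have hst : g₂ ≫ X.hom = g₁ ≫ X.hom := by
      have := congrArg (· ≫ X.hom) hgf
      simp only [Category.assoc, Over.w] at this
      exact this.symm
    let x : Over.mk (g₁ ≫ X.hom) ⟶ X := Over.homMk g₁ rfl
    let y : Over.mk (g₁ ≫ X.hom) ⟶ X := Over.homMk g₂ hst
    have hF₁ : x ≫ F₁ = y ≫ F₁ := by
      refine Over.OverMorphism.ext (pullback.hom_ext ?_ ?_)
      · show (g₁ ≫ F₁.left) ≫ pullback.fst G.hom _ = (g₂ ≫ F₁.left) ≫ pullback.fst G.hom _
        rw [Category.assoc, Category.assoc,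
          show F₁.left ≫ pullback.fst G.hom _ = pullback.fst G.hom _ ≫ (fr G).left from pullback.lift_fst _ _ _,
          ← Category.assoc, ← Category.assoc]
        refine hfr.comp_eq G φ hφ hI _ _ ?_ (by rw [reassoc_of% hg])
        rw [Category.assoc, Category.assoc, pullback.condition]
        rw [← Category.assoc, ← Category.assoc]
        exact congrArg (· ≫ ptm) hst.symm
      · show (g₁ ≫ F₁.left) ≫ X.hom = (g₂ ≫ F₁.left) ≫ X.hom
        rw [Category.assoc, Category.assoc, Over.w F₁]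
        exact hst.symm
    have hFxy : x ≫ F' = y ≫ F' := by simp only [F', reassoc_of% hF₁]
    have hL : x ≫ L a = y ≫ L a := Over.OverMorphism.ext hgf
    simp only [L, MonObj.comp_mul, GrpObj.comp_inv, Category.comp_id, ← Category.assoc, hFxy] at hL
    rw [mul_left_inj, toUnit_unique (x ≫ toUnit X) (y ≫ toUnit X), mul_left_inj] at hL
    exact congrArg (fun m : Over.mk (g₁ ≫ X.hom) ⟶ X => CommaMorphism.left m) hL
  -- each twisted map has an open set in its image
  have hopen : ∀ a, ∃ U : Set X.left, IsOpen U ∧ U.Nonempty ∧ U ⊆ Set.range (L a).left := fun a => by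
    haveI := hunr a
    haveI : LocallyOfFinitePresentation (L a).left := AntiAffLib.lfp_of_lft (L a)
    haveI : LocallyQuasiFinite (L a).left := DescLib.lqf_of_unramified (L a).left
    haveI : QuasiCompact (L a).left := by
      haveI : QuasiCompact ((L a).left ≫ X.hom) := by rw [Over.w (L a)]; infer_instance
      exact QuasiCompact.of_comp (L a).left X.hom
    haveI : CompactSpace X.left := QuasiCompact.compactSpace_of_compactSpace X.hom
    haveI : QuasiSeparatedSpace X.left :=
      (quasiSeparated_iff_quasiSeparatedSpace X.hom).1 inferInstance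
    obtain ⟨x, hx⟩ := AbSchLib.exists_generic_image X.hom (L a).left
    rw [irreducibleComponents_eq_singleton, Set.mem_singleton_iff] at hx
    refine AlbNormLib.exists_open_subset_of_constructible ?_ _ hx ⟨x, rfl⟩
    rw [← Set.image_univ]
    exact (L a).left.isConstructible_image Topology.IsConstructible.univ
  -- points with prescribed image
  have hlift : ∀ a (z : X.left), IsClosed ({z} : Set X.left) → z ∈ Set.range (L a).left →
      ∃ g : 𝟙_ (Over (Spec (CommRingCat.of Ω))) ⟶ X, (g ≫ L a).left (IsLocalRing.closedPoint Ω) = z := by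
    intro a z hz hzr
    obtain ⟨w, hw, hwc⟩ := nonempty_inter_closedPoints (X := X.left) (Z := (L a).left ⁻¹' {z})
      (by obtain ⟨w, hw⟩ := hzr; exact ⟨w, hw⟩) (hz.preimage (L a).left.continuous).isLocallyClosed
    refine ⟨Over.homMk (pointOfClosedPoint X.hom w hwc) (pointOfClosedPoint_comp _ _ _), ?_⟩
    show (pointOfClosedPoint X.hom w hwc ≫ (L a).left) _ = z
    rw [Scheme.Hom.comp_apply, pointOfClosedPoint_apply]
    exact hw
  obtain ⟨U, hU, hUne, hUs⟩ := hopen c
  obtain ⟨V, hV, hVne, hVs⟩ := hopen 1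
  obtain ⟨z, hz, hzc⟩ := nonempty_inter_closedPoints (X := X.left) (nonempty_preirreducible_inter hU hV hUne hVne)
    (hU.inter hV).isLocallyClosed
  obtain ⟨g, hg⟩ := hlift c z hzc (hUs hz.1)
  obtain ⟨h, hh⟩ := hlift 1 z hzc (hVs hz.2)
  have hgh : g ≫ L c = h ≫ L 1 := Over.OverMorphism.ext
    (ext_of_apply_closedPoint_eq X.hom (Over.w _) (Over.w _) (hg.trans hh.symm))
  have hu : ∀ m : 𝟙_ (Over (Spec (CommRingCat.of Ω))) ⟶ X, m ≫ toUnit X = 𝟙 _ := fun m => toUnit_unique _ _
  simp only [L, MonObj.comp_mul, GrpObj.comp_inv, Category.comp_id, ← Category.assoc, hu, Category.id_comp,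
    MonObj.comp_one, _root_.mul_one] at hgh
  refine ⟨g⁻¹ * h, ?_⟩
  show (g⁻¹ * h) * ((g⁻¹ * h) ≫ F')⁻¹ = c
  rw [MonObj.mul_comp, GrpObj.inv_comp, mul_inv_rev, inv_inv]
  have h3 : c = g⁻¹ * (h * (h ≫ F')⁻¹) * (g ≫ F') := by
    rw [← hgh]
    group
  rw [h3]
  group

variable {A B : Over (Spec (CommRingCat.of k))} [GrpObj A] [GrpObj B]

/-- A morphism killed by the quotient map factors through the kernel. -/
theorem exists_kernel_lift {C : Over (Spec (CommRingCat.of k))} [GrpObj C] (i : A ⟶ B) (π : B ⟶ C)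
    (hcart : IsPullback (fst B A) ((B ◁ i) ≫ μ[B]) π π) [IsMonHom π] {T : Over (Spec (CommRingCat.of k))}
    (z : T ⟶ B) (hz : z ≫ π = 1) : ∃! w : T ⟶ A, w ≫ i = z := by
  have key : ∀ w : T ⟶ A, lift (1 : T ⟶ B) w ≫ (B ◁ i) ≫ μ[B] = w ≫ i := fun w => by
    rw [← Category.assoc, lift_whiskerLeft, ← Hom.mul_def, _root_.one_mul]
  have hw : (1 : T ⟶ B) ≫ π = z ≫ π := by rw [MonObj.one_comp, hz]
  refine ⟨hcart.lift 1 z hw ≫ snd B A, ?_, fun w hwz => ?_⟩
  · show _ ≫ i = z
    rw [← key, show lift (1 : T ⟶ B) (hcart.lift 1 z hw ≫ snd B A) = hcart.lift 1 z hw from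
      CartesianMonoidalCategory.hom_ext _ _ (by rw [lift_fst]; exact (hcart.lift_fst _ _ _).symm) (lift_snd _ _),
      hcart.lift_snd]
  · rw [← lift_snd (1 : T ⟶ B) w]
    congr 1
    refine hcart.hom_ext ?_ ?_
    · rw [lift_fst, hcart.lift_fst]
    · rw [key, hcart.lift_snd]; exact hwz

/-- Lang's theorem for the Frobenius of a normal subgroup twisted by a point of the ambient group. -/
theorem exists_lang_conj [IsAlgClosed Ω] (hfr : IsFrob k fr) [Smooth A.hom] [QuasiCompact A.hom]
    [ConnectedSpace A.left] {C : Over (Spec (CommRingCat.of k))} [GrpObj C] (i : A ⟶ B) (π : B ⟶ C) [IsMonHom i]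
    [IsMonHom π] (hiπ : i ≫ π = 1) (hcart : IsPullback (fst B A) ((B ◁ i) ≫ μ[B]) π π)
    (b : SGA7.Pts Ω B) (a : SGA7.Pts Ω A) :
    ∃ x : SGA7.Pts Ω A, (x ≫ i) * b * ((x ≫ fr A) ≫ i)⁻¹ * b⁻¹ = a ≫ i := by
  let X := Red.bc ptm A
  let toP : ∀ U : Over (Spec (CommRingCat.of Ω)), (Over.map ptm).obj U ⟶ SGA7.pt (K := k) Ω :=
    fun U => Over.homMk U.hom rfl
  have htoP : ∀ {U V : Over (Spec (CommRingCat.of Ω))} (s : U ⟶ V), (Over.map ptm).map s ≫ toP V = toP U :=
    fun s => Over.OverMorphism.ext (Over.w s)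
  let bb : ∀ U : Over (Spec (CommRingCat.of Ω)), (Over.map ptm).obj U ⟶ B := fun U => toP U ≫ b
  let v : (Over.map ptm).obj X ⟶ A := (e X).symm (𝟙 X)
  let z : (Over.map ptm).obj X ⟶ B := bb X * (v ≫ i) * (bb X)⁻¹
  have hz : z ≫ π = 1 := by
    simp only [z, MonObj.mul_comp, GrpObj.inv_comp, Category.assoc, hiπ, MonObj.comp_one]
    rw [_root_.mul_one, mul_inv_cancel]
  obtain ⟨w, hw, -⟩ := exists_kernel_lift i π hcart z hz
  let θ : X ⟶ X := e X w
  have hev : ∀ {U : Over (Spec (CommRingCat.of Ω))} (g : U ⟶ X),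
      (e U).symm (g ≫ θ) ≫ i = bb U * ((e U).symm g ≫ i) * (bb U)⁻¹ := fun {U} g => by
    rw [e_nat, Equiv.symm_apply_apply, Category.assoc, hw]
    simp only [z, MonObj.comp_mul, GrpObj.comp_inv]
    have h2 : (Over.map ptm).map g ≫ v = (e U).symm g := by
      rw [Equiv.eq_symm_apply, ← e_nat, Equiv.apply_symm_apply, Category.comp_id]
    simp only [bb, reassoc_of% h2, ← Category.assoc, htoP]
  have hinj : ∀ {T : Over (Spec (CommRingCat.of k))} {w w' : T ⟶ A}, w ≫ i = w' ≫ i → w = w' := fun {T w w'} h =>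
    (exists_kernel_lift i π hcart (w ≫ i) (by rw [Category.assoc, hiπ, MonObj.comp_one])).unique rfl h.symm
  have hm : ∀ {U : Over (Spec (CommRingCat.of Ω))} (g g' : U ⟶ X),
      (e U).symm (g * g') = (e U).symm g * (e U).symm g' := fun g g' => by
    rw [Equiv.symm_apply_eq, AlgGrp.Action.homEquiv_mul, Equiv.apply_symm_apply, Equiv.apply_symm_apply]
  have hmul : ∀ {U : Over (Spec (CommRingCat.of Ω))} (g g' : U ⟶ X), (g * g') ≫ θ = (g ≫ θ) * (g' ≫ θ) :=
    fun {U} g g' => by
    refine (e U).symm.injective (hinj ?_)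
    rw [hev, hm, hm, MonObj.mul_comp, MonObj.mul_comp, hev, hev]
    group
  haveI : IsMonHom θ := by
    constructor
    · rw [MonObj.one_eq_one]
      exact mul_eq_left.1 ((hmul (1 : 𝟙_ _ ⟶ X) 1).symm.trans (by rw [_root_.one_mul]))
    · have h1 : fst X X * snd X X = μ[X] := by rw [Hom.mul_def, lift_fst_snd, Category.id_comp]
      rw [← h1, hmul, Hom.mul_def]
      congr 1
      exact h1.symm
  -- points of the base change
  let j : (Over.map ptm).obj (𝟙_ (Over (Spec (CommRingCat.of Ω)))) ≅ SGA7.pt (K := k) Ω :=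
    Over.isoMk (Iso.refl _) (by
      show 𝟙 _ ≫ ptm = 𝟙 _ ≫ ptm
      rfl)
  obtain ⟨g, hg⟩ := exists_lang_bc Ω hfr A θ (e _ (j.hom ≫ a))
  have hb : bb (𝟙_ (Over (Spec (CommRingCat.of Ω)))) = j.hom ≫ b :=
    congrArg (· ≫ b) (Over.OverMorphism.ext rfl)
  have hn : (e _).symm (g ≫ (Over.pullback ptm).map (fr A)) = (e _).symm g ≫ fr A :=
    (Over.mapPullbackAdj ptm).homEquiv_naturality_right_symm g (fr A)
  have hinv : ∀ {U : Over (Spec (CommRingCat.of Ω))} (g : U ⟶ X), (e U).symm g⁻¹ = ((e U).symm g)⁻¹ := fun {U} g =>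
    eq_inv_of_mul_eq_one_left (by
      rw [← hm, inv_mul_cancel, Equiv.symm_apply_eq, StackCountLib.BC.e_one])
  have h1 := congrArg (fun t => (e (𝟙_ (Over (Spec (CommRingCat.of Ω))))).symm t ≫ i) hg
  simp only [Equiv.symm_apply_apply, hm, hinv, MonObj.mul_comp, GrpObj.inv_comp] at h1
  rw [← Category.assoc g, hev, hn, hb] at h1
  refine ⟨j.inv ≫ (e _).symm g, (cancel_epi j.hom).1 ?_⟩
  simp only [MonObj.comp_mul, GrpObj.comp_inv, Category.assoc, Iso.hom_inv_id_assoc]
  rw [Category.assoc] at h1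
  rw [← Category.assoc j.hom a i, ← h1]
  group

end LangGenLib

end
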