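import Groth.Agent.LangGenLib.Frob
import Groth.Agent.StackCountLib.GalCount
import Groth.Agent.StackCountLib.Finite
import Groth.Agent.S9845
import Groth.Prelude.Def_NonAbH2

/-!
# Points of group schemes over the algebraic closure of a finite field
-/

set_option autoImplicit false
set_option linter.all false
set_option backward.isDefEq.respectTransparency false
set_option backward.isDefEq.respectTransparency.types false

noncomputable section

universe u

open CategoryTheory CategoryTheory.Limits MonoidalCategory CartesianMonoidalCategory MonObj AlgebraicGeometry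
open scoped Topology

namespace LangGenLib

attribute [-instance] CategoryTheory.Hom.commGroup

variable {k : Type u} [Field k] {kb : Type u} [Field kb] [Algebra k kb]

/-- Every point over an algebraic extension is defined over a finite subextension. -/
theorem exists_field_fix [Algebra.IsAlgebraic k kb] (Y : Over (Spec (CommRingCat.of k))) [LocallyOfFiniteType Y.hom]
    (x : SGA7.Pts kb Y) :
    ∃ L : IntermediateField k kb, FiniteDimensional k L ∧ ∀ σ ∈ L.fixingSubgroup, σ • x = x := by
  classical
  obtain ⟨U, hU, hxU, -⟩ := exists_isAffineOpen_mem_and_subset (X := Y.left) (U := ⊤)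
    (x := x.left (IsLocalRing.closedPoint kb)) trivial
  haveI := hU.isOpenImmersion_fromSpec
  have hr : Set.range x.left ⊆ Set.range hU.fromSpec := by
    rintro _ ⟨z, rfl⟩
    rw [hU.range_fromSpec, Subsingleton.elim (α := Spec (CommRingCat.of kb)) z (IsLocalRing.closedPoint kb)]
    exact hxU
  obtain ⟨φ, hφ⟩ : ∃ φ : Γ(Y.left, U) ⟶ CommRingCat.of kb, Spec.map φ = IsOpenImmersion.lift hU.fromSpec x.left hr :=
    ⟨_, Spec.map_preimage _⟩
  have hx : Spec.map φ ≫ hU.fromSpec = x.left := by rw [hφ, IsOpenImmersion.lift_fac]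
  let ιk : k →+* Γ(Y.left, U) := ((Scheme.ΓSpecIso (CommRingCat.of k)).inv ≫ Y.hom.appLE ⊤ U (by simp)).hom
  letI := ιk.toAlgebra
  haveI : Algebra.FiniteType k Γ(Y.left, U) :=
    (Y.hom.finiteType_appLE (U := ⊤) (isAffineOpen_top _) hU (by simp)).comp
      (RingHom.FiniteType.of_surjective _ (Scheme.ΓSpecIso (CommRingCat.of k)).symm.commRingCatIsoToRingEquiv.surjective)
  obtain ⟨n, q, hq⟩ := Algebra.FiniteType.iff_quotient_mvPolynomial''.1 ‹Algebra.FiniteType k Γ(Y.left, U)›
  have hs : Spec.map (CommRingCat.ofHom ιk) = hU.fromSpec ≫ Y.hom := by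
    show Spec.map ((Scheme.ΓSpecIso (CommRingCat.of k)).inv ≫ _) = _
    rw [Spec.map_comp, ← IsAffineOpen.SpecMap_appLE_fromSpec Y.hom (isAffineOpen_top _) hU, IsAffineOpen.fromSpec_top,
      Scheme.isoSpec_Spec_inv]
  have hcomp : φ.hom.comp ιk = algebraMap k kb := by
    refine congrArg CommRingCat.Hom.hom (Spec.map_injective (a₁ := CommRingCat.ofHom ιk ≫ φ)
      (a₂ := CommRingCat.ofHom (algebraMap k kb)) ?_)
    rw [Spec.map_comp, hs, ← Category.assoc, hx]
    exact Over.w x
  let S := Set.range fun i : Fin n => φ.hom (q (MvPolynomial.X i))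
  haveI : FiniteDimensional k (IntermediateField.adjoin k S) :=
    IntermediateField.finiteDimensional_adjoin (K := k) (S := S) fun y _ => Algebra.IsIntegral.isIntegral y
  refine ⟨IntermediateField.adjoin k S, inferInstance, fun σ hσ => Over.OverMorphism.ext ?_⟩
  show Spec.map (CommRingCat.ofHom (σ : kb →+* kb)) ≫ x.left = x.left
  rw [← hx, ← Category.assoc, ← Spec.map_comp]
  congr 2
  refine CommRingCat.hom_ext (RingHom.ext fun a => ?_)
  obtain ⟨P, rfl⟩ := hq a
  induction P using MvPolynomial.induction_on with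
  | C r =>
    show σ (φ.hom (q (MvPolynomial.C r))) = φ.hom (q (MvPolynomial.C r))
    rw [← MvPolynomial.algebraMap_eq, AlgHom.commutes]
    rw [show φ.hom (algebraMap k Γ(Y.left, U) r) = algebraMap k kb r from RingHom.congr_fun hcomp r, AlgEquiv.commutes]
  | add P Q hP hQ => simp only [map_add, hP, hQ]
  | mul_X P i hP =>
    simp only [map_mul, hP]
    congr 1
    exact (IntermediateField.mem_fixingSubgroup_iff _ _).1 hσ _
      (IntermediateField.subset_adjoin k S ⟨i, rfl⟩)

/-- Points over a finite field are finite. -/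
theorem finite_pts (L : Type u) [Field L] [Algebra k L] [Finite L]
    (X : Over (Spec (CommRingCat.of k))) [LocallyOfFiniteType X.hom] [QuasiCompact X.hom] :
    Finite (SGA7.Pts L X) := by
  haveI : LocallyOfFiniteType (GalTw.bcK L X).hom :=
    inferInstanceAs (LocallyOfFiniteType (pullback.snd X.hom (SGA7.pt (K := k) L).hom))
  haveI : QuasiCompact (GalTw.bcK L X).hom :=
    inferInstanceAs (QuasiCompact (pullback.snd X.hom (SGA7.pt (K := k) L).hom))
  haveI := StackCountLib.finite_points (GalTw.bcK L X)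
  refine Finite.of_injective (fun x : SGA7.Pts L X =>
    (Over.homMk (GalTw.secOfPt L x).left (Over.w (GalTw.secOfPt L x)) :
      Over.mk (𝟙 (Spec (CommRingCat.of L))) ⟶ GalTw.bcK L X)) fun x y h => Over.OverMorphism.ext ?_
  have h' : (GalTw.secOfPt L x).left ≫ pullback.fst _ _ = (GalTw.secOfPt L y).left ≫ pullback.fst _ _ :=
    congrArg (fun f => Over.Hom.left f ≫ pullback.fst _ _) h
  rwa [GalTw.secOfPt_left, GalTw.secOfPt_left, pullback.lift_fst, pullback.lift_fst] at h'

/-- The stabiliser of a point is open. -/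
theorem isOpen_stab [Algebra.IsAlgebraic k kb] {G : Over (Spec (CommRingCat.of k))} [GrpObj G]
    [LocallyOfFiniteType G.hom] (x : SGA7.Pts kb G) : IsOpen {σ : kb ≃ₐ[k] kb | σ • x = x} := by
  obtain ⟨L, _, hL⟩ := exists_field_fix G x
  have hle : L.fixingSubgroup ≤ MulAction.stabilizer (kb ≃ₐ[k] kb) x := fun σ hσ => hL σ hσ
  exact Subgroup.isOpen_mono hle (IntermediateField.fixingSubgroup_isOpen L)

/-- Every point lies in a finite stable subgroup. -/
theorem exists_finite_subgroup [Finite k] [IsGalois k kb] {G : Over (Spec (CommRingCat.of k))} [GrpObj G]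
    [LocallyOfFiniteType G.hom] [QuasiCompact G.hom] (x : SGA7.Pts kb G) :
    ∃ H : Subgroup (SGA7.Pts kb G), (H : Set (SGA7.Pts kb G)).Finite ∧ x ∈ H ∧
      ∀ (σ : kb ≃ₐ[k] kb) (y : SGA7.Pts kb G), y ∈ H → σ • y ∈ H := by
  obtain ⟨L₀, _, hL₀⟩ := exists_field_fix G x
  let L := IntermediateField.normalClosure k L₀ kb
  haveI : FiniteDimensional k L := normalClosure.is_finiteDimensional k L₀ kb
  haveI : Normal k L := normalClosure.normal k L₀ kb
  haveI : Finite L := Module.finite_of_finite k
  haveI := finite_pts L G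
  have hle : L₀ ≤ L := IntermediateField.le_normalClosure L₀
  let r : SGA7.Pts L G →* SGA7.Pts kb G :=
    { toFun := StackCountLib.res (IntermediateField.val L)
      map_one' := MonObj.comp_one _
      map_mul' := fun a b => MonObj.comp_mul _ _ _ }
  refine ⟨r.range, Set.finite_range r, ?_, ?_⟩
  · obtain ⟨y, hy⟩ := StackCountLib.exists_res_val L (x := x) fun σ hσ =>
      hL₀ σ (IntermediateField.fixingSubgroup_antitone hle hσ)
    exact ⟨y, hy⟩
  · rintro σ _ ⟨y, rfl⟩
    exact ⟨_, (StackCountLib.smul_res_val L σ y).symm⟩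

/-- A homomorphism with sections locally for the fppf topology is surjective on geometric points. -/
theorem exists_pts_lift [IsAlgClosed kb] {B C : Over (Spec (CommRingCat.of k))} (π : B ⟶ C)
    (hloc : NonAbH1.IsLocallyTrivialFor Scheme.fppfPrecoverage (Over.mk π.left : Over C.left)) (y : SGA7.Pts kb C) :
    ∃ x : SGA7.Pts kb B, x ≫ π = y := by
  obtain ⟨R, hR, hsec⟩ := hloc
  obtain ⟨U, g, hg, ⟨u, hu⟩⟩ := Groth.Agent.S9845.exists_mem hR (y.left (IsLocalRing.closedPoint kb))
  obtain ⟨s, hs⟩ := hsec g hg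
  have hgp : Flat g ∧ LocallyOfFinitePresentation g := hR.2 hg
  haveI := hgp.2
  let q : pullback g y.left ⟶ Spec (CommRingCat.of kb) := pullback.snd g y.left
  haveI : JacobsonSpace ↥(pullback g y.left) := LocallyOfFiniteType.jacobsonSpace q
  obtain ⟨z, -, -⟩ := Scheme.Pullback.exists_preimage_pullback (f := g) (g := y.left) u (IsLocalRing.closedPoint kb) hu
  obtain ⟨w, -, hw⟩ := nonempty_inter_closedPoints (Z := (Set.univ : Set ↥(pullback g y.left)))
    ⟨z, trivial⟩ isOpen_univ.isLocallyClosed
  let p := pointOfClosedPoint q w hw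
  have hp : p ≫ q = 𝟙 _ := pointOfClosedPoint_comp _ _ _
  have hps : (p ≫ pullback.fst g y.left ≫ s) ≫ π.left = y.left := by
    simp only [Category.assoc]
    rw [show s ≫ π.left = g from hs, pullback.condition, ← Category.assoc, hp, Category.id_comp]
  refine ⟨Over.homMk (p ≫ pullback.fst g y.left ≫ s) ?_, Over.OverMorphism.ext hps⟩
  rw [← Over.w π, ← Category.assoc, hps]
  exact Over.w y

variable [Finite k] {fr : ∀ T : Over (Spec (CommRingCat.of k)), T ⟶ T}

/-- The arithmetic Frobenius acts on points as the Frobenius endomorphism. -/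
theorem IsFrob.smul_eq (hfr : IsFrob k fr) {σ : kb ≃ₐ[k] kb} (hσ : ∀ x : kb, σ x = x ^ Nat.card k)
    {G : Over (Spec (CommRingCat.of k))} [GrpObj G] (x : SGA7.Pts kb G) : σ • x = x ≫ fr G := by
  rw [← hfr.nat x]
  show SGA7.specAut σ ≫ x = _
  congr 1
  exact Over.OverMorphism.ext (hfr.spec (CommRingCat.of kb) _ (CommRingCat.ofHom (σ : kb →+* kb)) hσ).symm

end LangGenLib

end
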